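import Cfsg.Agent.Lib.DegBound.Monolith
import Cfsg.Agent.Lib.TwoDeg.Main
import Cfsg.Agent.Lib.Char.Burnside
import Mathlib.GroupTheory.Solvable

/-!
# Isaacs 12.26: an abelian subgroup of index at most `(b!)^2`
-/

set_option autoImplicit false
set_option maxHeartbeats 1000000

open scoped ComplexConjugate Classical
open CfsgLib

namespace CfsgLib.DegBound

universe u

section Quotient

variable {Q : Type u} [Group Q] [Finite Q]

/-- A character whose kernel contains the derived subgroup is linear. -/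
theorem degree_one_of_kernel (η : Cfsg.IrrCharacter Q) (N : Subgroup Q) [N.Normal]
    (hN : ∀ n ∈ N, (η : Q → ℂ) n = (η : Q → ℂ) 1) (hle : commutator Q ≤ N) :
    Cfsg.charDegree (η : Q → ℂ) = 1 := by
  obtain ⟨ψ, hψ⟩ := CharTools.exists_descend N η.2 hN
  have h1 : Cfsg.charDegree (η : Q → ℂ) = Cfsg.charDegree (ψ : Q ⧸ N → ℂ) := by
    unfold Cfsg.charDegree
    rw [← hψ 1]
    rfl
  have h2 := TwoDeg.degree_le_index ψ ⊤ fun a _ b _ => by
    obtain ⟨a, rfl⟩ := QuotientGroup.mk_surjective a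
    obtain ⟨b, rfl⟩ := QuotientGroup.mk_surjective b
    rw [← QuotientGroup.mk_mul, ← QuotientGroup.mk_mul, QuotientGroup.eq]
    refine hle ?_
    have h := Subgroup.commutator_mem_commutator (Subgroup.mem_top b⁻¹) (Subgroup.mem_top a⁻¹)
    rw [← commutator_def] at h
    simpa [commutatorElement_def, mul_assoc] using h
  rw [Subgroup.index_top] at h2
  have := CharTools.irr_degree_pos ψ
  omega

/-- With degrees at most four a monolith is commutative. -/
theorem comm_of_degree_le_four (h4 : ∀ η : Cfsg.IrrCharacter Q, Cfsg.charDegree (η : Q → ℂ) ≤ 4)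
    (hne : commutator Q ≠ ⊥)
    (hmin : ∀ L : Subgroup Q, L.Normal → L ≠ ⊥ → commutator Q ≤ L) :
    ∀ a ∈ commutator Q, ∀ b ∈ commutator Q, a * b = b * a := by
  by_contra hcon
  have h23 : ∀ p : ℕ, p.Prime → p ∣ Nat.card Q → p = 2 ∨ p = 3 := by
    intro p hp hdvd
    by_contra h
    push Not at h
    have h5 : 4 < p := by
      rcases lt_or_ge 4 p with h' | h'
      · exact h'
      · exfalso
        have := hp.two_le
        interval_cases p <;> simp_all (config := {decide := true})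
    obtain ⟨P, hPn, hPab, -, hPidx⟩ := Cfsg.Agent.S4464.result p hp fun η => (h4 η).trans_lt h5
    have hPb : P ≠ ⊥ := fun h' => hPidx (by rw [h', Subgroup.index_bot]; exact hdvd)
    exact hcon fun a ha b hb => hPab a (hmin P hPn hPb ha) b (hmin P hPn hPb hb)
  have hsolv : Group.IsSolvable Q :=
    CfsgLib.Char.isSolvable_of_two_primes 2 3 Nat.prime_two Nat.prime_three _ Q rfl h23
  have hbot : (⁅commutator Q, commutator Q⁆ : Subgroup Q) ≠ ⊥ := fun h => hcon fun a ha b hb => by
    rw [Subgroup.commutator_eq_bot_iff_le_centralizer] at h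
    exact (Subgroup.mem_centralizer_iff.1 (h ha) b hb).symm
  have heq : ⁅commutator Q, commutator Q⁆ = commutator Q :=
    le_antisymm (Subgroup.commutator_le_left _ _) (hmin _ inferInstance hbot)
  obtain ⟨n, hn⟩ := (Group.isSolvable_def Q).1 hsolv
  have hall : ∀ k, commutator Q ≤ derivedSeries Q k := fun k => by
    induction k with
    | zero => exact le_top
    | succ k ih =>
      rw [derivedSeries_succ, ← heq]
      exact Subgroup.commutator_mono ih ih
  exact hne (le_bot_iff.1 (hn ▸ hall n))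

/-- A noncentral commutative monolith is self-centralizing with semiregular action on its
characters. -/
theorem stab_le_of_monolith (hmin : ∀ L : Subgroup Q, L.Normal → L ≠ ⊥ → commutator Q ≤ L)
    (hab : ∀ a ∈ commutator Q, ∀ b ∈ commutator Q, a * b = b * a)
    (hnc : ¬ commutator Q ≤ Subgroup.center Q) (f : commutator Q →* ℂˣ) (hf : f ≠ 1) (g : Q)
    (hg : ∀ e : commutator Q,
      f ⟨g * e * g⁻¹, (inferInstance : (commutator Q).Normal).conj_mem e e.2 g⟩ = f e) :
    g ∈ commutator Q := by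
  have hEn : (commutator Q).Normal := inferInstance
  have hmemE : ∀ a b : Q, a * b * a⁻¹ * b⁻¹ ∈ (commutator Q) := fun a b => by
    have h := Subgroup.commutator_mem_commutator (Subgroup.mem_top a) (Subgroup.mem_top b)
    rw [← commutator_def] at h
    simpa [commutatorElement_def] using h
  have hEc : ∀ a ∈ (commutator Q), ∀ x ∈ (commutator Q), a * x * a⁻¹ = x := fun a ha x hx => by
    rw [hab a ha x hx, mul_inv_cancel_right]
  -- `g` centralizes `(commutator Q)`
  have hgC : g ∈ Subgroup.centralizer ((commutator Q) : Set Q) := by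
    set L := f.ker.map (commutator Q).subtype with hL
    have hcore : L.normalCore = ⊥ := by
      by_contra h
      refine hf (MonoidHom.ext fun e => ?_)
      obtain ⟨y, hy, hye⟩ := (Subgroup.normalCore_le L) (hmin _ inferInstance h e.2)
      rw [← Subtype.ext hye]
      exact hy
    rw [Subgroup.mem_centralizer_iff]
    intro e he
    have hmem : g * e * g⁻¹ * e⁻¹ ∈ L.normalCore := fun h => by
      have he' : h * e * h⁻¹ ∈ (commutator Q) := hEn.conj_mem e he h
      have key : h * (g * e * g⁻¹ * e⁻¹) * h⁻¹ = g * (h * e * h⁻¹) * g⁻¹ * (h * e * h⁻¹)⁻¹ := by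
        have h1 : (h * g * h⁻¹ * g⁻¹) * (g * (h * e * h⁻¹) * g⁻¹) * (h * g * h⁻¹ * g⁻¹)⁻¹ =
            g * (h * e * h⁻¹) * g⁻¹ := hEc _ (hmemE h g) _ (hEn.conj_mem _ he' g)
        conv_rhs => rw [← h1]
        group
      refine ⟨⟨g * (h * e * h⁻¹) * g⁻¹, hEn.conj_mem _ he' g⟩ * ⟨h * e * h⁻¹, he'⟩⁻¹, ?_, ?_⟩
      · show f _ = 1
        rw [map_mul, map_inv, hg ⟨h * e * h⁻¹, he'⟩, mul_inv_cancel]
      · rw [key]; rfl
    rw [hcore, Subgroup.mem_bot, mul_inv_eq_one, mul_inv_eq_iff_eq_mul] at hmem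
    exact hmem.symm
  -- the centralizer of `(commutator Q)` is `(commutator Q)`
  by_contra hgE
  obtain ⟨g', hg'⟩ : ∃ g', g' ∉ Subgroup.centralizer ((commutator Q) : Set Q) := by
    by_contra h
    push Not at h
    exact hnc fun e he => Subgroup.mem_center_iff.2 fun x => (Subgroup.mem_centralizer_iff.1 (h x) e he).symm
  have hfix : ∀ e ∈ (commutator Q), g' * e = e * g' → e = 1 := by
    intro e he hcomm
    set F := (commutator Q) ⊓ Subgroup.centralizer ({g'} : Set Q) with hF
    haveI : F.Normal := ⟨fun x hx h => by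
      obtain ⟨hxE, hxg⟩ := Subgroup.mem_inf.1 hx
      have hx' := hEn.conj_mem x hxE h
      refine Subgroup.mem_inf.2 ⟨hx', Subgroup.mem_centralizer_singleton_iff.2 ?_⟩
      have h1 := Subgroup.mem_centralizer_singleton_iff.1 hxg
      have h2 := hEc _ (hmemE h g') _ hx'
      rw [mul_inv_eq_iff_eq_mul] at h2
      have h3 : h * g' * h⁻¹ = (h * g' * h⁻¹ * g'⁻¹) * g' := (inv_mul_cancel_right _ _).symm
      have h4 : (h * x * h⁻¹) * (h * g' * h⁻¹) = (h * g' * h⁻¹) * (h * x * h⁻¹) := by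
        calc (h * x * h⁻¹) * (h * g' * h⁻¹) = h * (x * g') * h⁻¹ := by group
          _ = h * (g' * x) * h⁻¹ := by rw [h1]
          _ = _ := by group
      rw [h3, ← mul_assoc, ← h2] at h4
      exact mul_left_cancel ((mul_assoc _ _ _).symm.trans (h4.trans (mul_assoc _ _ _)))⟩
    by_contra he1
    refine hg' (Subgroup.mem_centralizer_iff.2 fun x hx => ?_)
    have hFb : F ≠ ⊥ := fun h => he1 (Subgroup.mem_bot.1 (h ▸ (Subgroup.mem_inf.2
      ⟨he, Subgroup.mem_centralizer_singleton_iff.2 hcomm.symm⟩ : e ∈ F)))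
    exact Subgroup.mem_centralizer_singleton_iff.1 (Subgroup.mem_inf.1 (hmin F inferInstance hFb hx)).2
  let ε : (commutator Q) → (commutator Q) := fun e => ⟨e * g' * e.1⁻¹ * g'⁻¹, hmemE e g'⟩
  have hinj : Function.Injective ε := fun e₁ e₂ h => by
    have h1 := congrArg Subtype.val h
    simp only [ε, mul_left_inj] at h1
    have h2 : g' * (e₂.1⁻¹ * e₁) = e₂.1⁻¹ * e₁ * g' := by
      calc g' * (e₂.1⁻¹ * e₁) = e₂.1⁻¹ * (e₂ * g' * e₂.1⁻¹) * e₁ := by group
        _ = e₂.1⁻¹ * (e₁ * g' * e₁.1⁻¹) * e₁ := by rw [h1]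
        _ = _ := by group
    exact Subtype.ext (inv_mul_eq_one.1 (hfix _ ((commutator Q).mul_mem ((commutator Q).inv_mem e₂.2) e₁.2) h2)).symm
  obtain ⟨e, he⟩ := (Finite.injective_iff_surjective.1 hinj) ⟨g * g' * g⁻¹ * g'⁻¹, hmemE g g'⟩
  have he' : (e : Q) * g' * e.1⁻¹ = g * g' * g⁻¹ := by
    have := congrArg Subtype.val he
    simpa [ε] using this
  set c := (e : Q)⁻¹ * g with hc
  have hcg : g' * c = c * g' := by
    calc g' * c = (e : Q)⁻¹ * (e * g' * e.1⁻¹) * g := by rw [hc]; group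
      _ = (e : Q)⁻¹ * (g * g' * g⁻¹) * g := by rw [he']
      _ = _ := by rw [hc]; group
  have hcC : ∀ x ∈ (commutator Q), x * c = c * x := fun x hx => by
    rw [hc, ← mul_assoc, hab x hx _ ((commutator Q).inv_mem e.2), mul_assoc,
      Subgroup.mem_centralizer_iff.1 hgC x hx, ← mul_assoc]
  have hcz : c ∈ Subgroup.center Q := by
    rw [Subgroup.mem_center_iff]
    intro h
    have hd : c * h * c⁻¹ * h⁻¹ ∈ (commutator Q) := hmemE c h
    have h1 : c * h * c⁻¹ * h⁻¹ = 1 := by
      refine hfix _ hd ?_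
      set e₁ := g' * h * g'⁻¹ * h⁻¹ with he₁
      have he₁E : e₁ ∈ (commutator Q) := hmemE g' h
      have key : g' * (c * h * c⁻¹ * h⁻¹) * g'⁻¹ = c * h * c⁻¹ * h⁻¹ := by
        calc g' * (c * h * c⁻¹ * h⁻¹) * g'⁻¹
            = (g' * c) * h * (g' * c)⁻¹ * (g' * h⁻¹ * g'⁻¹) := by group
          _ = c * (g' * h * g'⁻¹) * c⁻¹ * (g' * h⁻¹ * g'⁻¹) := by rw [hcg]; group
          _ = c * e₁ * (h * c⁻¹ * h⁻¹) * e₁⁻¹ := by rw [he₁]; group
          _ = e₁ * (c * h * c⁻¹ * h⁻¹) * e₁⁻¹ := by rw [← hcC e₁ he₁E]; group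
          _ = _ := hEc _ he₁E _ hd
      exact mul_inv_eq_iff_eq_mul.1 key
    rw [mul_inv_eq_one, mul_inv_eq_iff_eq_mul] at h1
    exact h1.symm
  have hc1 : c = 1 := by
    by_contra hc1
    exact hnc (hmin _ inferInstance fun h => hc1 (Subgroup.mem_bot.1 (h ▸ hcz)))
  rw [hc, inv_mul_eq_one] at hc1
  exact hgE (hc1 ▸ e.2)

end Quotient

variable {G : Type u} [Group G] [Finite G] {b : ℕ}

/-- If no element outside `W` has a small class then `W` has small index. -/
theorem index_le_of_large_classes (hb : ∀ χ : Cfsg.IrrCharacter G, Cfsg.charDegree (χ : G → ℂ) ≤ b)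
    (W : Subgroup G) [W.Normal]
    (hlarge : ∀ x, x ∉ W → b ^ 2 < (Subgroup.centralizer ({x} : Set G)).index) : W.index ≤ b ^ 4 := by
  haveI := Fintype.ofFinite G
  haveI := Fintype.ofFinite (ConjClasses G)
  have h1 : Nat.card G ≤ Nat.card (ConjClasses G) * b ^ 2 := by
    rw [← CfsgLib.Char.card_irrCharacter (G := G), ← CharTools.sum_degree_sq' (G := G),
      Nat.card_eq_fintype_card (α := Cfsg.IrrCharacter G)]
    refine (Finset.sum_le_sum fun χ _ => Nat.pow_le_pow_left (hb χ) 2).trans (le_of_eq ?_)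
    rw [Finset.sum_const, Finset.card_univ, smul_eq_mul]
  set s := Finset.univ.filter fun g : G => g ∉ W with hs
  set t := Finset.univ.filter fun g : G => g ∈ W with ht
  have hts : t.card + s.card = Nat.card G := by
    rw [Nat.card_eq_fintype_card, ht, hs,
      Finset.card_filter_add_card_filter_not (s := (Finset.univ : Finset G)) (p := (· ∈ W)), Finset.card_univ]
  have htW : t.card = Nat.card W := by
    rw [ht, ← Fintype.card_subtype, ← Nat.card_eq_fintype_card]
  have hcover : Nat.card (ConjClasses G) ≤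
      (t.image ConjClasses.mk).card + (s.image ConjClasses.mk).card := by
    rw [Nat.card_eq_fintype_card, ← Finset.card_univ]
    refine (Finset.card_le_card fun C _ => ?_).trans (Finset.card_union_le _ _)
    obtain ⟨g, rfl⟩ := ConjClasses.mk_surjective C
    by_cases hg : g ∈ W
    · exact Finset.mem_union_left _ (Finset.mem_image_of_mem _ (by simp [ht, hg]))
    · exact Finset.mem_union_right _ (Finset.mem_image_of_mem _ (by simp [hs, hg]))
  have hout : (b ^ 2 + 1) * (s.image ConjClasses.mk).card ≤ s.card := by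
    rw [Finset.card_eq_sum_card_image ConjClasses.mk s, mul_comm, ← smul_eq_mul, ← Finset.sum_const]
    refine Finset.sum_le_sum fun C hC => ?_
    obtain ⟨x, hx, rfl⟩ := Finset.mem_image.1 hC
    have hxW : x ∉ W := by simpa [hs] using hx
    have h := hlarge x hxW
    rw [CfsgLib.Char.index_centralizer_eq_card_isConj, Nat.card_eq_fintype_card, Fintype.card_subtype] at h
    refine h.trans_le (Finset.card_le_card fun y hy => ?_)
    have hxy : IsConj x y := (Finset.mem_filter.1 hy).2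
    refine Finset.mem_filter.2 ⟨?_, ConjClasses.mk_eq_mk_iff_isConj.2 hxy.symm⟩
    simp only [hs, Finset.mem_filter, Finset.mem_univ, true_and]
    intro hyW
    obtain ⟨c, rfl⟩ := isConj_iff.1 hxy
    refine hxW ?_
    simpa [mul_assoc] using Subgroup.Normal.conj_mem ‹W.Normal› _ hyW c⁻¹
  have h3 : (t.image ConjClasses.mk).card ≤ t.card := Finset.card_image_le
  have hkey : (b ^ 2 + 1) * Nat.card G ≤ b ^ 4 * Nat.card W + b ^ 2 * Nat.card G := by
    have h4 := Nat.mul_le_mul_left (b ^ 2 + 1) hcover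
    rw [mul_add] at h4
    have h5 := Nat.mul_le_mul_left (b ^ 2 + 1) h3
    have h6 : (b ^ 2 + 1) * Nat.card (ConjClasses G) ≤ b ^ 2 * Nat.card W + Nat.card G := by
      rw [htW] at h5 hts
      have : (b ^ 2 + 1) * Nat.card W = b ^ 2 * Nat.card W + Nat.card W := by ring
      omega
    calc (b ^ 2 + 1) * Nat.card G ≤ (b ^ 2 + 1) * (Nat.card (ConjClasses G) * b ^ 2) :=
          Nat.mul_le_mul_left _ h1
      _ = b ^ 2 * ((b ^ 2 + 1) * Nat.card (ConjClasses G)) := by ring
      _ ≤ b ^ 2 * (b ^ 2 * Nat.card W + Nat.card G) := Nat.mul_le_mul_left _ h6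
      _ = _ := by ring
  rw [add_mul, one_mul] at hkey
  have h7 : Nat.card G ≤ b ^ 4 * Nat.card W := by omega
  rw [← W.index_mul_card] at h7
  exact Nat.le_of_mul_le_mul_right h7 Nat.card_pos

/-- The step of Isaacs 12.26. -/
theorem exists_step (hb : ∀ χ : Cfsg.IrrCharacter G, Cfsg.charDegree (χ : G → ℂ) ≤ b)
    (hG : ∃ a b : G, a * b ≠ b * a) :
    (∃ H : Subgroup G, H.index ≤ b ^ 2 ∧
      ∀ η : Cfsg.IrrCharacter H, Cfsg.charDegree (η : H → ℂ) < b) ∨
    ∃ W : Subgroup G, 5 ≤ b ∧ W.index ≤ b ^ 4 ∧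
      ∀ θ : Cfsg.IrrCharacter W, 2 * Cfsg.charDegree (θ : W → ℂ) ≤ b := by
  haveI := Fintype.ofFinite G
  have hbpos : 0 < b := (CharTools.irr_degree_pos CfsgLib.Char.principalIrr).trans_le (hb _)
  have hcb : ¬ commutator G ≤ ⊥ := fun h => by
    obtain ⟨x, y, hxy⟩ := hG
    refine hxy ?_
    have h1 := Subgroup.commutator_mem_commutator (Subgroup.mem_top x) (Subgroup.mem_top y)
    rw [← commutator_def] at h1
    exact commutatorElement_eq_one_iff_mul_comm.1 (Subgroup.mem_bot.1 (h h1))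
  obtain ⟨W, -, ⟨hWn, hW⟩, hWmax⟩ := (Set.toFinite
    {L : Subgroup G | L.Normal ∧ ¬ commutator G ≤ L}).exists_le_maximal (a := ⊥) ⟨inferInstance, hcb⟩
  haveI := hWn
  set π := QuotientGroup.mk' W with hπdef
  have hπ : Function.Surjective π := QuotientGroup.mk'_surjective W
  have hmap : commutator (G ⧸ W) = (commutator G).map π := by
    rw [commutator_def, commutator_def, Subgroup.map_commutator, Subgroup.map_top_of_surjective π hπ]
  have hne : commutator (G ⧸ W) ≠ ⊥ := by
    rw [hmap, Ne, Subgroup.map_eq_bot_iff, QuotientGroup.ker_mk']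
    exact hW
  have hmin : ∀ L : Subgroup (G ⧸ W), L.Normal → L ≠ ⊥ → commutator (G ⧸ W) ≤ L := by
    intro L hL hLne
    rw [hmap, Subgroup.map_le_iff_le_comap]
    by_contra hn
    have hWL : W ≤ L.comap π := fun w hw => by
      rw [Subgroup.mem_comap, show π w = 1 from (QuotientGroup.eq_one_iff w).2 hw]
      exact L.one_mem
    have heq : L.comap π = W := le_antisymm (hWmax ⟨hL.comap π, hn⟩ hWL) hWL
    refine hLne ?_
    rw [eq_bot_iff]
    intro x hx
    obtain ⟨g, rfl⟩ := hπ x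
    rw [Subgroup.mem_bot]
    exact (QuotientGroup.eq_one_iff g).2 (heq ▸ hx)
  have hbQ : ∀ η : Cfsg.IrrCharacter (G ⧸ W), Cfsg.charDegree (η : G ⧸ W → ℂ) ≤ b := fun η =>
    (inflate_deg π _).symm.trans_le (hb ⟨_, CharTools.isIrrCharacter_comp π hπ η.2⟩)
  -- the criterion
  have hcrit : ∀ H : Subgroup G, (∀ χ : Cfsg.IrrCharacter G, Cfsg.charDegree (χ : G → ℂ) = b →
      ¬ Cfsg.IsIrrCharacter H (fun h : H => (χ : G → ℂ) h)) →
      ∀ η : Cfsg.IrrCharacter H, Cfsg.charDegree (η : H → ℂ) < b := fun H h η => by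
    obtain ⟨h1, h2⟩ := degree_restrict hb H η
    refine lt_of_le_of_ne h1 fun he => ?_
    obtain ⟨χ, hχ, hirr⟩ := h2 he
    exact h χ hχ hirr
  by_cases hab : ∀ x ∈ commutator (G ⧸ W), ∀ y ∈ commutator (G ⧸ W), x * y = y * x
  swap
  · -- nonabelian monolith
    have hb5 : 5 ≤ b := by
      by_contra h
      exact hab (comm_of_degree_le_four (fun η => (hbQ η).trans (by omega)) hne hmin)
    by_cases hsmall : ∃ x, x ∉ W ∧ (Subgroup.centralizer ({x} : Set G)).index ≤ b ^ 2
    · obtain ⟨x, hxW, hx⟩ := hsmall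
      refine Or.inl ⟨_, hx, hcrit _ fun χ hχ hirr => hxW ?_⟩
      set H := Subgroup.centralizer ({x} : Set G) with hH
      have hxH : x ∈ H := Subgroup.mem_centralizer_singleton_iff.2 rfl
      have hne0 : (χ : G → ℂ) x ≠ 0 := fun h0 => by
        have h1 := CharTools.norm_apply_center ⟨_, hirr⟩ (z := ⟨x, hxH⟩)
          (Subgroup.mem_center_iff.2 fun y => Subtype.ext
            (Subgroup.mem_centralizer_singleton_iff.1 y.2))
        simp only [h0, norm_zero, charDegree_res, hχ] at h1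
        exact hbpos.ne' (by exact_mod_cast h1.symm)
      have hcore := vanish_off_core hb hχ H hirr hxH hne0
      by_contra hxW'
      have hmapne : H.normalCore.map π ≠ ⊥ := fun h => hxW' ((QuotientGroup.eq_one_iff x).1
        (Subgroup.mem_bot.1 (h ▸ ⟨x, hcore, rfl⟩)))
      have hEH := hmin _ ((inferInstance : H.normalCore.Normal).map π hπ) hmapne
      set C := Subgroup.centralizer ((commutator (G ⧸ W) : Subgroup (G ⧸ W)) : Set (G ⧸ W)) with hC
      have hxC : π x ∈ C := Subgroup.mem_centralizer_iff.2 fun e he => by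
        obtain ⟨y, hy, rfl⟩ := hEH he
        rw [← map_mul, ← map_mul, Subgroup.mem_centralizer_singleton_iff.1 (H.normalCore_le hy)]
      have hCne : C ≠ ⊥ := fun h => hxW' ((QuotientGroup.eq_one_iff x).1 (Subgroup.mem_bot.1 (h ▸ hxC)))
      exact hab fun a ha c hc =>
        (Subgroup.mem_centralizer_iff.1 (hmin C inferInstance hCne ha) c hc).symm
    · push Not at hsmall
      refine Or.inr ⟨W, hb5, index_le_of_large_classes hb W hsmall, fun θ => ?_⟩
      by_contra hlt
      push Not at hlt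
      haveI := Fintype.ofFinite W
      have hind := CfsgLib.Char.IsCharacter.indFun (H := W) (CfsgLib.Char.IsIrrCharacter.isCharacter θ.2)
      obtain ⟨χ, hχ⟩ := CharTools.exists_constituent hind fun h0 => by
        have h1 := congrFun h0 1
        rw [CfsgLib.Char.indFun_apply_one] at h1
        exact mul_ne_zero (Nat.cast_ne_zero.2 Subgroup.index_ne_zero_of_finite)
          (CharTools.irr_apply_one_ne_zero θ) h1
      rw [CfsgLib.Char.classInner_indFun W _ _ (CfsgLib.Char.IsIrrCharacter.isClassFunction χ.2),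
        ← CfsgLib.Char.classInner_conj_symm, Ne, map_eq_zero] at hχ
      obtain ⟨k, hk⟩ := CfsgLib.Char.IsCharacter.exists_nat_classInner
        (Clifford.isCharacter_res (CfsgLib.Char.IsIrrCharacter.isCharacter χ.2) W) θ.2
      have h1 := Clifford.apply_one_eq W χ.2 θ.2 hχ
      rw [hk, ← CharTools.irr_degree_cast, ← CharTools.irr_degree_cast, ← Nat.cast_mul,
        ← Nat.cast_mul, Nat.cast_inj] at h1
      have hdvd : Cfsg.charDegree (θ : W → ℂ) ∣ Cfsg.charDegree (χ : G → ℂ) := Dvd.intro_left _ h1.symm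
      obtain ⟨c, hc⟩ := hdvd
      have hchi := hb χ
      have hle : Cfsg.charDegree (χ : G → ℂ) ≤ Cfsg.charDegree (θ : W → ℂ) := by
        rcases c with _ | _ | c
        · simp [hc]
        · simp [hc]
        · exfalso
          rw [hc] at hchi
          nlinarith
      have hres := CharTools.eq_of_constituent_of_degree_le
        (CfsgLib.Char.IsCharacter.restrict (CfsgLib.Char.IsIrrCharacter.isCharacter χ.2) W) θ hχ
        (by rw [charDegree_res]; exact hle)
      have hirr : Cfsg.IsIrrCharacter W (fun w : W => (χ : G → ℂ) w) := hres ▸ θ.2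
      -- every character trivial on `W` is linear
      refine hne (le_bot_iff.1 ?_)
      rw [commutator_def, Subgroup.commutator_le]
      intro x _ y _
      rw [Subgroup.mem_bot, commutatorElement_eq_one_iff_mul_comm]
      refine TwoDeg.comm_of_degree_one (fun η => ?_) x y
      have hφ := CharTools.isIrrCharacter_comp π hπ η.2
      have hprod := irr_mul_of_restrict W χ ⟨_, hφ⟩ hirr fun n hn => by
        show (η : G ⧸ W → ℂ) (π n) = (η : G ⧸ W → ℂ) (π 1)
        rw [show π n = 1 from (QuotientGroup.eq_one_iff n).2 hn, map_one]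
      have h2 := hb ⟨_, hprod⟩
      have h3 : (Cfsg.charDegree (fun g => (χ : G → ℂ) g * (η : G ⧸ W → ℂ) (π g)) : ℂ) =
          (Cfsg.charDegree (χ : G → ℂ) * Cfsg.charDegree (η : G ⧸ W → ℂ) : ℕ) := by
        rw [CharTools.irr_degree_cast ⟨_, hprod⟩, Nat.cast_mul, CharTools.irr_degree_cast,
          CharTools.irr_degree_cast]
        show _ * (η : G ⧸ W → ℂ) (π 1) = _
        rw [map_one]
      rw [Nat.cast_inj] at h3
      simp only at h2
      rw [h3, hc] at h2
      have h4 := CharTools.irr_degree_pos η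
      rcases c with _ | c
      · rw [mul_zero] at hc; exact absurd hc (CharTools.irr_degree_pos χ).ne'
      · by_contra h5
        have h6 : 2 ≤ Cfsg.charDegree (η : G ⧸ W → ℂ) := by omega
        nlinarith
  -- abelian monolith
  refine Or.inl ?_
  by_cases hcen : commutator (G ⧸ W) ≤ Subgroup.center (G ⧸ W)
  · -- central monolith
    obtain ⟨η, hη⟩ : ∃ η : Cfsg.IrrCharacter (G ⧸ W), Cfsg.charDegree (η : G ⧸ W → ℂ) ≠ 1 := by
      by_contra h
      push Not at h
      refine hne (le_bot_iff.1 ?_)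
      rw [commutator_def, Subgroup.commutator_le]
      intro x _ y _
      rw [Subgroup.mem_bot, commutatorElement_eq_one_iff_mul_comm]
      exact TwoDeg.comm_of_degree_one h x y
    have hvan : ∀ g, g ∉ Subgroup.center (G ⧸ W) → (η : G ⧸ W → ℂ) g = 0 := by
      intro g hg
      obtain ⟨h, hh⟩ : ∃ h, h * g ≠ g * h := by
        by_contra hc
        push Not at hc
        exact hg (Subgroup.mem_center_iff.2 hc)
      set z := h * g * h⁻¹ * g⁻¹ with hzdef
      have hz : z ∈ commutator (G ⧸ W) := by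
        have h1 := Subgroup.commutator_mem_commutator (Subgroup.mem_top h) (Subgroup.mem_top g)
        rw [← commutator_def] at h1
        simpa [commutatorElement_def, hzdef] using h1
      have h2 := CharOver.apply_mul_central η.2 (hcen hz) g
      have h3 : g * z = h * g * h⁻¹ := by
        rw [Subgroup.mem_center_iff.1 (hcen hz) g, hzdef, inv_mul_cancel_right]
      rw [h3, CfsgLib.Char.IsIrrCharacter.isClassFunction η.2 g h] at h2
      by_contra hg0
      have h4 := mul_left_cancel₀ hg0 h2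
      obtain ⟨N, hNn, hN, -⟩ := CharTools.exists_kernel (CfsgLib.Char.IsIrrCharacter.isCharacter η.2)
      haveI := hNn
      have hNb : N ≠ ⊥ := fun hb' => hh (by
        have h5 : z ∈ N := (hN z).2 h4.symm
        rw [hb', Subgroup.mem_bot, hzdef, mul_inv_eq_one, mul_inv_eq_iff_eq_mul] at h5
        exact h5)
      exact hη (degree_one_of_kernel η N (fun n hn => (hN n).1 hn) (hmin N hNn hNb))
    haveI := Fintype.ofFinite (G ⧸ W)
    set Z := Subgroup.center (G ⧸ W) with hZ
    haveI := Fintype.ofFinite Z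
    have hnorm : ∀ z ∈ Z, (η : G ⧸ W → ℂ) z * conj ((η : G ⧸ W → ℂ) z) =
        ((Cfsg.charDegree (η : G ⧸ W → ℂ) ^ 2 : ℕ) : ℂ) := fun z hz => by
      rw [Complex.mul_conj', CharTools.norm_apply_center η hz]
      push_cast
      rfl
    have hidx : Z.index = Cfsg.charDegree (η : G ⧸ W → ℂ) ^ 2 := by
      have h1 := sum_norm_irr η.2
      rw [sum_eq_sum_of_support Z _ (fun g hg => by rw [hvan g hg, zero_mul]),
        Finset.sum_congr rfl (fun (z : Z) (_ : z ∈ Finset.univ) => hnorm (z : G ⧸ W) z.2), Finset.sum_const, Finset.card_univ, nsmul_eq_mul,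
        ← Nat.cast_mul, Nat.cast_inj, ← Nat.card_eq_fintype_card, ← Z.card_mul_index] at h1
      exact (Nat.eq_of_mul_eq_mul_left Nat.card_pos h1).symm
    refine ⟨Z.comap π, ?_, hcrit _ fun χ hχ hirr => hη ?_⟩
    · rw [Subgroup.index_comap_of_surjective Z hπ, hidx]
      exact Nat.pow_le_pow_left (hbQ η) 2
    · set φ : Cfsg.IrrCharacter G := ⟨_, CharTools.isIrrCharacter_comp π hπ η.2⟩ with hφ
      rw [← inflate_deg π (η : G ⧸ W → ℂ)]
      refine degree_mul_le hb hχ (φ := φ) (isIrr_of_norm_one (CfsgLib.Char.IsCharacter.mul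
        (CfsgLib.Char.IsIrrCharacter.isCharacter χ.2) (CfsgLib.Char.IsIrrCharacter.isCharacter φ.2)) ?_)
      haveI := Fintype.ofFinite (Z.comap π)
      rw [sum_eq_sum_of_support (Z.comap π) _ (fun g hg => by
        show ((χ : G → ℂ) g * (η : G ⧸ W → ℂ) (π g)) * _ = 0
        rw [hvan _ hg, mul_zero, zero_mul])]
      have hterm : ∀ x : Z.comap π, ((χ : G → ℂ) x * (φ : G → ℂ) x) * conj ((χ : G → ℂ) x * (φ : G → ℂ) x) =
          ((Cfsg.charDegree (η : G ⧸ W → ℂ) ^ 2 : ℕ) : ℂ) * ((χ : G → ℂ) x * conj ((χ : G → ℂ) x)) := fun x => by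
        rw [← hnorm _ x.2, map_mul]
        show _ = (η : G ⧸ W → ℂ) (π x) * conj ((η : G ⧸ W → ℂ) (π x)) * _
        simp only [hφ]
        ring
      rw [Finset.sum_congr rfl (fun x _ => hterm x), ← Finset.mul_sum, sum_norm_irr hirr, ← hidx,
        ← Subgroup.index_comap_of_surjective Z hπ, ← Nat.cast_mul, Subgroup.index_mul_card]
  -- Frobenius type
  set E := commutator (G ⧸ W) with hE
  obtain ⟨f, hf, q, hq, hfq⟩ : ∃ f : E →* ℂˣ, f ≠ 1 ∧ ∃ q : ℕ, q.Prime ∧ f ^ q = 1 := by
    obtain ⟨e, he, he1⟩ := (Subgroup.bot_or_exists_ne_one E).resolve_left hne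
    obtain ⟨f, hfe⟩ : ∃ f : E →* ℂˣ, f ⟨e, he⟩ ≠ 1 := by
      by_contra h
      push Not at h
      refine he1 (congrArg Subtype.val (TwoDeg.eq_of_forall_hom_eq
        (fun x y => Subtype.ext (hab x x.2 y y.2)) (x := (⟨e, he⟩ : E)) (y := 1) fun f => ?_))
      rw [h f, map_one]
    set n := orderOf (f ⟨e, he⟩) with hn
    have hn1 : n ≠ 1 := fun h => hfe (orderOf_eq_one_iff.1 h)
    have hcard : (f ^ Nat.card E) = 1 := MonoidHom.ext fun x => by
      rw [MonoidHom.pow_apply, ← map_pow, pow_card_eq_one', map_one, MonoidHom.one_apply]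
    set o := orderOf f with ho
    have ho1 : o ≠ 1 := fun h => hfe (by rw [orderOf_eq_one_iff.1 h]; rfl)
    have hopos : 0 < o := orderOf_pos_iff.2 (isOfFinOrder_iff_pow_eq_one.2 ⟨_, Nat.card_pos, hcard⟩)
    obtain ⟨q, hq, hqo⟩ := Nat.exists_prime_and_dvd ho1
    refine ⟨f ^ (o / q), fun h => ?_, q, hq, MonoidHom.ext fun x => by
      rw [MonoidHom.pow_apply, MonoidHom.pow_apply, ← pow_mul, Nat.div_mul_cancel hqo, ← MonoidHom.pow_apply,
        pow_orderOf_eq_one]⟩
    exact Nat.not_dvd_of_pos_of_lt (Nat.div_pos (Nat.le_of_dvd hopos hqo) hq.pos)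
      (Nat.div_lt_self hopos hq.one_lt) (orderOf_dvd_of_pow_eq_one h)
  haveI : Fact q.Prime := ⟨hq⟩
  set H₀ := E.comap π with hH₀
  haveI := Fintype.ofFinite H₀
  let fH : H₀ →* ℂˣ := f.comp (π.subgroupComap E)
  have hfH : ∀ x : H₀, fH x = f ⟨π x, x.2⟩ := fun x => rfl
  have hstab : ∀ g, g ∈ H₀ ↔ CharTwist.conjFun H₀ (fun x => (fH x : ℂ)) g = fun x => (fH x : ℂ) := by
    intro g
    constructor
    · intro hg
      funext x
      simp only [CharTwist.conjFun, Units.val_inj, hfH]
      refine congrArg f (Subtype.ext ?_)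
      show π (g * x * g⁻¹) = π x
      rw [map_mul, map_mul, map_inv, hab _ hg _ x.2, mul_inv_cancel_right]
    · intro h
      refine stab_le_of_monolith hmin hab hcen f hf (π g) fun e => ?_
      obtain ⟨x, hx⟩ := hπ (e : G ⧸ W)
      have h1 := Units.ext (congrFun h ⟨x, by rw [hH₀, Subgroup.mem_comap, hx]; exact e.2⟩)
      rw [hfH, hfH] at h1
      convert h1 using 2
      · exact Subtype.ext (by simp [← hx, map_mul, map_inv])
      · exact Subtype.ext hx.symm
  have hθ : Cfsg.IsIrrCharacter H₀ (fun x => (fH x : ℂ)) := CfsgLib.Char.isIrrCharacter_linear fH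
  have hφirr := Clifford.isIrrCharacter_indFun H₀ H₀ le_rfl hθ hstab hθ (by
    rw [show (fun n : H₀ => (fH ⟨n, le_rfl (a := H₀) n.2⟩ : ℂ)) = fun n => (fH n : ℂ) from rfl,
      CfsgLib.Char.classInner_irr_self hθ]
    exact one_ne_zero)
  set φ : Cfsg.IrrCharacter G := ⟨_, hφirr⟩ with hφ
  have hφdeg : Cfsg.charDegree (φ : G → ℂ) = H₀.index := by
    refine Nat.cast_injective (R := ℂ) ?_
    rw [CharTools.irr_degree_cast]
    show Cfsg.indFun H₀ (fun x => (fH x : ℂ)) 1 = _
    rw [CfsgLib.Char.indFun_apply_one, map_one, Units.val_one, mul_one]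
  have hidx1 : H₀.index ≠ 1 := fun h => by
    rw [hH₀, Subgroup.index_comap_of_surjective E hπ, Subgroup.index_eq_one] at h
    refine hcen fun e he => Subgroup.mem_center_iff.2 fun x => hab x (h ▸ Subgroup.mem_top x) e he
  have hidxb : H₀.index ≤ b := hφdeg ▸ hb φ
  have hWH : ∀ w ∈ W, π w = 1 := fun w hw => (QuotientGroup.eq_one_iff w).2 hw
  -- vanishing
  have hvan : ∀ χ : Cfsg.IrrCharacter G, Cfsg.charDegree (χ : G → ℂ) = b →
      Cfsg.IsIrrCharacter H₀ (fun x : H₀ => (χ : G → ℂ) x) →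
      ∀ x ∈ H₀, (χ : G → ℂ) x ≠ 0 → π x = 1 := by
    intro χ hχ hirr x hx hx0
    set ψ : H₀ → ℂ := fun y => (fH y : ℂ) * (χ : G → ℂ) y with hψ
    have hψirr : Cfsg.IsIrrCharacter H₀ ψ := CfsgLib.Char.IsIrrCharacter.linear_mul hirr fH
    obtain ⟨g, hg, hgH⟩ : ∃ g, CharTwist.conjFun H₀ ψ g = ψ ∧ g ∉ H₀ := by
      by_contra hcon
      push Not at hcon
      refine hidx1 (hφdeg ▸ degree_mul_le hb hχ (φ := φ) ?_)
      have h := Clifford.isIrrCharacter_indFun H₀ H₀ le_rfl hψirr (fun g => ⟨fun hg => ?_, hcon g⟩)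
        hψirr (by
          rw [show (fun n : H₀ => ψ ⟨n, le_rfl (a := H₀) n.2⟩) = ψ from rfl,
            CfsgLib.Char.classInner_irr_self hψirr]
          exact one_ne_zero)
      · rw [hψ, CfsgLib.Char.indFun_mul_res H₀ _ _ (CfsgLib.Char.IsIrrCharacter.isClassFunction χ.2)] at h
        convert h using 1
        funext y
        exact mul_comm _ _
      · funext y
        have h1 := congrFun ((hstab g).1 hg) y
        simp only [CharTwist.conjFun] at h1 ⊢
        simp only [hψ]
        rw [h1, CfsgLib.Char.IsIrrCharacter.isClassFunction χ.2 (y : G) g]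
    have hgE : π g ∉ E := hgH
    let f' : E →* ℂˣ := f.comp (MulAut.conjNormal (H := E) (π g)).toMonoidHom / f
    have hf'1 : f' ≠ 1 := fun h => hgE (stab_le_of_monolith hmin hab hcen f hf (π g) fun e => by
      have h1 := DFunLike.congr_fun h e
      rw [MonoidHom.one_apply] at h1
      exact div_eq_one.1 h1)
    set L := f'.ker.map E.subtype with hL
    have hcore : L.normalCore = ⊥ := by
      by_contra h
      refine hf'1 (MonoidHom.ext fun e => ?_)
      obtain ⟨y, hy, hye⟩ := (Subgroup.normalCore_le L) (hmin _ inferInstance h e.2)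
      rw [← Subtype.ext hye]
      exact hy
    have hmem : π x ∈ L.normalCore := fun k => by
      obtain ⟨k, rfl⟩ := hπ k
      have hxk : k * x * k⁻¹ ∈ H₀ := (inferInstance : H₀.Normal).conj_mem x hx k
      refine ⟨⟨π (k * x * k⁻¹), hxk⟩, ?_, by simp⟩
      have hχk : (χ : G → ℂ) (k * x * k⁻¹) = (χ : G → ℂ) x :=
        CfsgLib.Char.IsIrrCharacter.isClassFunction χ.2 x k
      have h1 := congrFun hg ⟨k * x * k⁻¹, hxk⟩
      simp only [CharTwist.conjFun, hψ] at h1
      rw [CfsgLib.Char.IsIrrCharacter.isClassFunction χ.2 (k * x * k⁻¹) g, hχk] at h1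
      have h2 := Units.ext (mul_right_cancel₀ hx0 h1)
      rw [hfH, hfH] at h2
      show f (MulAut.conjNormal (π g) _) / f _ = 1
      rw [div_eq_one, ← h2]
      exact congrArg f (Subtype.ext (by simp [map_mul, map_inv]))
    rw [hcore, Subgroup.mem_bot] at hmem
    exact hmem
  -- the subgroup `M`
  set M := (f.ker.map E.subtype).comap π with hMdef
  have hMH : M ≤ H₀ := Subgroup.comap_mono (Subgroup.map_subtype_le _)
  haveI := Fintype.ofFinite M
  obtain ⟨e₀, he₀⟩ : ∃ e, f e ≠ 1 := by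
    by_contra h
    push Not at h
    exact hf (MonoidHom.ext h)
  have he₀q : orderOf (f e₀) = q := orderOf_eq_prime
    (by rw [← MonoidHom.pow_apply, hfq, MonoidHom.one_apply]) he₀
  have hker : f.ker.index = q := by
    rw [Subgroup.index_ker]
    have hprim : IsPrimitiveRoot (f e₀ : ℂ) q := IsPrimitiveRoot.iff_orderOf.2 (by rw [orderOf_units, he₀q])
    have heq : f.range = Subgroup.zpowers (f e₀) := by
      refine le_antisymm ?_ (Subgroup.zpowers_le.2 ⟨e₀, rfl⟩)
      rintro _ ⟨e, rfl⟩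
      obtain ⟨k, -, hk⟩ := hprim.eq_pow_of_pow_eq_one (show (f e : ℂ) ^ q = 1 by
        rw [← Units.val_pow_eq_pow_val, ← MonoidHom.pow_apply, hfq, MonoidHom.one_apply, Units.val_one])
      rw [show f e = f e₀ ^ k from Units.ext (by rw [Units.val_pow_eq_pow_val, hk])]
      exact Subgroup.npow_mem_zpowers _ k
    rw [heq, Nat.card_zpowers, he₀q]
  have hMidx : M.index = q * H₀.index := by
    rw [hMdef, Subgroup.index_comap_of_surjective _ hπ, Subgroup.index_map_subtype, hker, hH₀,
      Subgroup.index_comap_of_surjective _ hπ]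
  by_cases hno : ∀ χ : Cfsg.IrrCharacter G, Cfsg.charDegree (χ : G → ℂ) = b →
      ¬ Cfsg.IsIrrCharacter H₀ (fun x : H₀ => (χ : G → ℂ) x)
  · exact ⟨H₀, hidxb.trans (Nat.le_self_pow two_ne_zero b), hcrit H₀ hno⟩
  push Not at hno
  obtain ⟨χ₀, hχ₀, hirr₀⟩ := hno
  have hoffM : ∀ x ∈ H₀, x ∉ M → π x ≠ 1 := fun x _ hxM h => hxM (by
    rw [hMdef, Subgroup.mem_comap, h]; exact Subgroup.one_mem _)
  have hqb : q ∣ b := by
    obtain ⟨m, hm⟩ := hπ (e₀ : G ⧸ W)
    set n' := orderOf m / q ^ (orderOf m).factorization q with hn'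
    set x := m ^ n' with hx
    have hxH : x ∈ H₀ := by
      refine pow_mem ?_ n'
      rw [hH₀, Subgroup.mem_comap, hm]; exact e₀.2
    have hxM : x ∉ M := fun h => by
      obtain ⟨y, hy, hye⟩ := h
      rw [hx, map_pow, hm] at hye
      have h2 : y = e₀ ^ n' := Subtype.ext (by simpa using hye)
      rw [h2] at hy
      have h3 : f e₀ ^ n' = 1 := by rw [← map_pow]; exact hy
      have h4 := orderOf_dvd_of_pow_eq_one h3
      rw [he₀q] at h4
      exact Nat.not_dvd_ordCompl hq (orderOf_pos m).ne' h4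
    have h0 : (χ₀ : G → ℂ) x = 0 := by
      by_contra h
      exact hoffM x hxH hxM (hvan χ₀ hχ₀ hirr₀ x hxH h)
    rw [← hχ₀]
    refine Cfsg.Agent.S4558.result q _ (CfsgLib.Char.IsIrrCharacter.isCharacter χ₀.2) x ?_ h0
    obtain ⟨j, -, hj⟩ := (Nat.dvd_prime_pow hq).1 (orderOf_dvd_of_pow_eq_one (show x ^ q ^ (orderOf m).factorization q = 1 by
      rw [hx, ← pow_mul, hn', Nat.div_mul_cancel (Nat.ordProj_dvd _ _), pow_orderOf_eq_one]))
    exact ⟨j, hj⟩
  refine ⟨M, ?_, hcrit M fun χ hχ hirrM => ?_⟩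
  · rw [hMidx, sq]
    exact Nat.mul_le_mul (Nat.le_of_dvd hbpos hqb) hidxb
  · have hirr := irr_restrict_mono hb hχ hMH hirrM
    have h1 := sum_norm_irr hirr
    have h2 := sum_norm_irr hirrM
    have hvanM : ∀ g : G, g ∉ M →
        (if g ∈ H₀ then (χ : G → ℂ) g * conj ((χ : G → ℂ) g) else 0) = 0 := fun g hg => by
      split_ifs with hgH
      · by_cases hg0 : (χ : G → ℂ) g = 0
        · rw [hg0, zero_mul]
        · exact absurd (hvan χ hχ hirr g hgH hg0) (hoffM g hgH hg)
      · rfl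
    set F : G → ℂ := fun g => if g ∈ H₀ then (χ : G → ℂ) g * conj ((χ : G → ℂ) g) else 0 with hF
    have hH : ∑ g, F g = (Nat.card H₀ : ℂ) := by
      rw [sum_eq_sum_of_support H₀ F (fun g hg => if_neg hg), ← h1]
      exact Finset.sum_congr rfl fun x _ => if_pos x.2
    have hM : ∑ g, F g = (Nat.card M : ℂ) := by
      rw [sum_eq_sum_of_support M F hvanM, ← h2]
      exact Finset.sum_congr rfl fun x _ => if_pos (hMH x.2)
    have heq : Nat.card H₀ = Nat.card M := Nat.cast_injective (hH.symm.trans hM)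
    have h3 := M.card_mul_index
    rw [← H₀.card_mul_index, hMidx, heq] at h3
    have h4 : q * H₀.index = H₀.index := Nat.eq_of_mul_eq_mul_left Nat.card_pos h3
    exact hq.ne_one (Nat.eq_of_mul_eq_mul_right (Nat.pos_of_ne_zero Subgroup.index_ne_zero_of_finite)
      (h4.trans (one_mul _).symm))

theorem half_factorial_bound (b : ℕ) (hb : 5 ≤ b) : b ^ 2 * (b / 2).factorial ≤ b.factorial := by
  obtain ⟨d, rfl⟩ : ∃ d, b = d + 3 := ⟨b - 3, by omega⟩
  have h1 : ((d + 3) / 2).factorial ≤ d.factorial := Nat.factorial_le (by omega)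
  calc (d + 3) ^ 2 * ((d + 3) / 2).factorial ≤ (d + 3) ^ 2 * d.factorial := Nat.mul_le_mul_left _ h1
    _ ≤ (d + 3) * ((d + 2) * (d + 1)) * d.factorial := by
        refine Nat.mul_le_mul_right _ ?_
        rw [sq]
        refine Nat.mul_le_mul_left _ ?_
        nlinarith
    _ = (d + 3).factorial := by
        rw [Nat.factorial_succ, Nat.factorial_succ, Nat.factorial_succ]; ring

/-- **Isaacs 12.26.** -/
theorem exists_abelian_index_le (b : ℕ) : ∀ (G : Type u) [Group G] [Finite G],
    (∀ χ : Cfsg.IrrCharacter G, Cfsg.charDegree (χ : G → ℂ) ≤ b) →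
    ∃ A : Subgroup G, (∀ x ∈ A, ∀ y ∈ A, x * y = y * x) ∧ A.index ≤ b.factorial ^ 2 := by
  induction b using Nat.strong_induction_on with
  | _ b ih =>
    intro G _ _ hb
    by_cases hG : ∀ a c : G, a * c = c * a
    · exact ⟨⊤, fun x _ y _ => hG x y, by
        rw [Subgroup.index_top]; exact Nat.one_le_pow _ _ (Nat.factorial_pos b)⟩
    push Not at hG
    have hbpos : 0 < b := (CharTools.irr_degree_pos CfsgLib.Char.principalIrr).trans_le (hb _)
    have lift : ∀ (H : Subgroup G) (A : Subgroup H), (∀ x ∈ A, ∀ y ∈ A, x * y = y * x) →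
        (∀ x ∈ A.map H.subtype, ∀ y ∈ A.map H.subtype, x * y = y * x) := by
      rintro H A hA _ ⟨x, hx, rfl⟩ _ ⟨y, hy, rfl⟩
      exact congrArg Subtype.val (hA x hx y hy)
    rcases exists_step hb hG with ⟨H, hH, hdeg⟩ | ⟨W, hb5, hW, hdeg⟩
    · obtain ⟨A, hA, hAi⟩ := ih (b - 1) (by omega) H fun η => by
        have := hdeg η; omega
      refine ⟨A.map H.subtype, lift H A hA, ?_⟩
      rw [Subgroup.index_map_subtype]
      refine (Nat.mul_le_mul hAi hH).trans (le_of_eq ?_)
      obtain ⟨d, rfl⟩ : ∃ d, b = d + 1 := ⟨b - 1, by omega⟩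
      rw [Nat.factorial_succ, Nat.add_sub_cancel]
      ring
    · obtain ⟨A, hA, hAi⟩ := ih (b / 2) (by omega) W fun θ => by
        have := hdeg θ; omega
      refine ⟨A.map W.subtype, lift W A hA, ?_⟩
      rw [Subgroup.index_map_subtype]
      refine (Nat.mul_le_mul hAi hW).trans ?_
      calc (b / 2).factorial ^ 2 * b ^ 4 = (b ^ 2 * (b / 2).factorial) ^ 2 := by ring
        _ ≤ _ := Nat.pow_le_pow_left (half_factorial_bound b hb5) 2

end CfsgLib.DegBound
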