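import Cfsg.Agent.Lib.TwoDeg.Basic
import Cfsg.Agent.Lib.Char.CentralOver
import Cfsg.Agent.S4464
import Cfsg.Agent.S4558
import Cfsg.Agent.Lib.Char.Burnside
import Cfsg.Agent.Lib.KGV.WeilChar

/-!
# Degree-lowering subgroups of bounded index: the tools
-/

set_option autoImplicit false

open scoped ComplexConjugate Classical
open CfsgLib

namespace CfsgLib.DegBound

universe u

variable {G : Type u} [Group G] [Finite G] {b : ℕ}

theorem inflate_deg {Q : Type u} [Group Q] (π : G →* Q) (η : Q → ℂ) :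
    Cfsg.charDegree (fun g => η (π g)) = Cfsg.charDegree η := by
  simp [Cfsg.charDegree, map_one]

theorem charDegree_res (H : Subgroup G) (χ : G → ℂ) :
    Cfsg.charDegree (fun h : H => χ h) = Cfsg.charDegree χ := by
  simp [Cfsg.charDegree]

theorem isIrr_of_norm_one [Fintype G] {f : G → ℂ} (hf : Cfsg.IsCharacter G f)
    (h : ∑ g, f g * conj (f g) = (Nat.card G : ℂ)) : Cfsg.IsIrrCharacter G f := by
  refine CfsgLib.Char.IsCharacter.isIrrCharacter_of_classInner_self hf ?_
  rw [Cfsg.classInner, h, inv_mul_cancel₀ (Nat.cast_ne_zero.2 Nat.card_pos.ne')]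

theorem sum_norm_irr [Fintype G] {f : G → ℂ} (hf : Cfsg.IsIrrCharacter G f) :
    ∑ g, f g * conj (f g) = (Nat.card G : ℂ) := by
  have h := CfsgLib.Char.classInner_irr_self hf
  rw [Cfsg.classInner, inv_mul_eq_one₀ (Nat.cast_ne_zero.2 Nat.card_pos.ne')] at h
  exact h.symm

/-- A sum supported on a subgroup. -/
theorem sum_eq_sum_of_support [Fintype G] (H : Subgroup G) [Fintype H] (F : G → ℂ)
    (hF : ∀ g, g ∉ H → F g = 0) : ∑ g, F g = ∑ h : H, F h := by
  rw [← Finset.sum_subtype (Finset.univ.filter (· ∈ H)) (fun x => by simp) F,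
    Finset.sum_filter_of_ne]
  intro x _ hx
  by_contra h
  exact hx (hF x h)

/-- A character of large degree cannot be irreducible. -/
theorem degree_mul_le (hb : ∀ χ : Cfsg.IrrCharacter G, Cfsg.charDegree (χ : G → ℂ) ≤ b)
    {χ φ : Cfsg.IrrCharacter G} (hχ : Cfsg.charDegree (χ : G → ℂ) = b)
    (h : Cfsg.IsIrrCharacter G (fun g => (χ : G → ℂ) g * (φ : G → ℂ) g)) :
    Cfsg.charDegree (φ : G → ℂ) = 1 := by
  have h1 := hb ⟨_, h⟩
  have h2 : (Cfsg.charDegree (fun g => (χ : G → ℂ) g * (φ : G → ℂ) g) : ℂ) =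
      (b * Cfsg.charDegree (φ : G → ℂ) : ℕ) := by
    rw [CharTools.irr_degree_cast ⟨_, h⟩, Nat.cast_mul, ← hχ, CharTools.irr_degree_cast,
      CharTools.irr_degree_cast]
  rw [Nat.cast_inj] at h2
  simp only at h1
  rw [h2] at h1
  have hbpos : 0 < b := hχ ▸ CharTools.irr_degree_pos χ
  have h3 := CharTools.irr_degree_pos φ
  have h4 : b * Cfsg.charDegree (φ : G → ℂ) ≤ b * 1 := by rwa [mul_one]
  have := Nat.le_of_mul_le_mul_left h4 hbpos
  omega

/-- Degrees on a subgroup, and where the maximum comes from. -/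
theorem degree_restrict (hb : ∀ χ : Cfsg.IrrCharacter G, Cfsg.charDegree (χ : G → ℂ) ≤ b)
    (H : Subgroup G) (η : Cfsg.IrrCharacter H) :
    Cfsg.charDegree (η : H → ℂ) ≤ b ∧ (Cfsg.charDegree (η : H → ℂ) = b →
      ∃ χ : Cfsg.IrrCharacter G, Cfsg.charDegree (χ : G → ℂ) = b ∧
        Cfsg.IsIrrCharacter H (fun h : H => (χ : G → ℂ) h)) := by
  haveI := Fintype.ofFinite G
  haveI := Fintype.ofFinite H
  have hind := CfsgLib.Char.IsCharacter.indFun (H := H) (CfsgLib.Char.IsIrrCharacter.isCharacter η.2)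
  obtain ⟨χ, hχ⟩ := CharTools.exists_constituent hind fun h0 => by
    have h1 := congrFun h0 1
    rw [CfsgLib.Char.indFun_apply_one] at h1
    exact mul_ne_zero (Nat.cast_ne_zero.2 Subgroup.index_ne_zero_of_finite)
      (CharTools.irr_apply_one_ne_zero η) h1
  rw [CfsgLib.Char.classInner_indFun H _ _ (CfsgLib.Char.IsIrrCharacter.isClassFunction χ.2),
    ← CfsgLib.Char.classInner_conj_symm, Ne, map_eq_zero] at hχ
  have hres := CfsgLib.Char.IsCharacter.restrict (CfsgLib.Char.IsIrrCharacter.isCharacter χ.2) H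
  have hle : Cfsg.charDegree (η : H → ℂ) ≤ Cfsg.charDegree (χ : G → ℂ) := by
    rw [← charDegree_res H (χ : G → ℂ)]
    by_contra hlt
    push Not at hlt
    have := CharTools.eq_of_constituent_of_degree_le hres η hχ hlt.le
    rw [this] at hlt
    exact lt_irrefl _ hlt
  refine ⟨hle.trans (hb χ), fun he => ⟨χ, le_antisymm (hb χ) (he ▸ hle), ?_⟩⟩
  rw [CharTools.eq_of_constituent_of_degree_le hres η hχ (by rw [charDegree_res, he]; exact hb χ)]
  exact η.2

/-- Irreducibility of a restriction goes up to an intermediate subgroup. -/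
theorem irr_restrict_mono (hb : ∀ χ : Cfsg.IrrCharacter G, Cfsg.charDegree (χ : G → ℂ) ≤ b)
    {χ : Cfsg.IrrCharacter G} (hχ : Cfsg.charDegree (χ : G → ℂ) = b) {M E : Subgroup G} (hME : M ≤ E)
    (hM : Cfsg.IsIrrCharacter M (fun m : M => (χ : G → ℂ) m)) :
    Cfsg.IsIrrCharacter E (fun e : E => (χ : G → ℂ) e) := by
  haveI := Fintype.ofFinite E
  haveI := Fintype.ofFinite M
  have hres := CfsgLib.Char.IsCharacter.restrict (CfsgLib.Char.IsIrrCharacter.isCharacter χ.2) E
  obtain ⟨m, hm, -⟩ := CharTools.exists_degree_combination hres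
  have hdec := CfsgLib.Char.IsCharacter.eq_sum_classInner hres
  let r : Cfsg.IrrCharacter E → (M → ℂ) := fun ψ x => (ψ : E → ℂ) (Subgroup.inclusion hME x)
  have e : (fun x : M => (χ : G → ℂ) x) = ∑ ψ : Cfsg.IrrCharacter E, (m ψ : ℂ) • r ψ := by
    funext x
    have h := congrFun hdec (Subgroup.inclusion hME x)
    simp only [Finset.sum_apply, Pi.smul_apply, smul_eq_mul, hm] at h ⊢
    exact h
  obtain ⟨ψ, hψm, hψ⟩ : ∃ ψ, m ψ ≠ 0 ∧ Cfsg.classInner (r ψ) (fun x : M => (χ : G → ℂ) x) ≠ 0 := by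
    by_contra hcon
    push Not at hcon
    have h1 := CfsgLib.Char.classInner_irr_self hM
    conv_lhs at h1 => arg 1; rw [e]
    rw [CfsgLib.Char.classInner_sum_left, Finset.sum_eq_zero fun ψ _ => ?_] at h1
    · exact zero_ne_one h1
    · rw [CfsgLib.Char.classInner_smul_left]
      by_cases h0 : m ψ = 0
      · rw [h0, Nat.cast_zero, zero_mul]
      · rw [hcon ψ h0, mul_zero]
  have hr : Cfsg.IsCharacter M (r ψ) := CfsgLib.Char.IsCharacter.comp
    (CfsgLib.Char.IsIrrCharacter.isCharacter ψ.2) (Subgroup.inclusion hME)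
  have hdr : Cfsg.charDegree (r ψ) = Cfsg.charDegree (ψ : E → ℂ) := by
    simp [Cfsg.charDegree, r, map_one]
  have h2 : b ≤ Cfsg.charDegree (ψ : E → ℂ) := by
    by_contra hlt
    push Not at hlt
    have h3 := CharTools.eq_of_constituent_of_degree_le hr ⟨_, hM⟩ hψ (by
      show Cfsg.charDegree (r ψ) ≤ Cfsg.charDegree (fun x : M => (χ : G → ℂ) x)
      rw [hdr, charDegree_res, hχ]; exact hlt.le)
    rw [← hdr, h3] at hlt
    simp only [charDegree_res, hχ, lt_irrefl] at hlt
  have h4 := CharTools.eq_of_constituent_of_degree_le hres ψ (by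
    rw [hm]; exact Nat.cast_ne_zero.2 hψm) (by rw [charDegree_res, hχ]; exact h2)
  rw [h4]
  exact ψ.2

/-- A maximal degree character irreducible on a subgroup vanishes there outside the normal core. -/
theorem vanish_off_core (hb : ∀ χ : Cfsg.IrrCharacter G, Cfsg.charDegree (χ : G → ℂ) ≤ b)
    {χ : Cfsg.IrrCharacter G} (hχ : Cfsg.charDegree (χ : G → ℂ) = b) (H : Subgroup G)
    (hH : Cfsg.IsIrrCharacter H (fun h : H => (χ : G → ℂ) h)) {x : G} (hx : x ∈ H)
    (h0 : (χ : G → ℂ) x ≠ 0) : x ∈ H.normalCore := by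
  haveI := Fintype.ofFinite G
  haveI := Fintype.ofFinite H
  set θ : H → ℂ := fun h => (χ : G → ℂ) h with hθ
  have hind := CfsgLib.Char.IsCharacter.indFun (H := H) (CfsgLib.Char.IsIrrCharacter.isCharacter hH)
  obtain ⟨m, hm, -⟩ := CharTools.exists_degree_combination hind
  have hdec := CfsgLib.Char.IsCharacter.eq_sum_classInner hind
  have hres : ∀ χ' : Cfsg.IrrCharacter G, m χ' ≠ 0 → ∀ h : H, (χ' : G → ℂ) h = θ h := by
    intro χ' h' h
    have h1 := hm χ'
    rw [CfsgLib.Char.classInner_indFun H _ _ (CfsgLib.Char.IsIrrCharacter.isClassFunction χ'.2)] at h1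
    have h2 : Cfsg.classInner (fun h : H => (χ' : G → ℂ) h) θ ≠ 0 := by
      rw [← CfsgLib.Char.classInner_conj_symm, h1, map_natCast]
      exact Nat.cast_ne_zero.2 h'
    exact congrFun (CharTools.eq_of_constituent_of_degree_le
      (CfsgLib.Char.IsCharacter.restrict (CfsgLib.Char.IsIrrCharacter.isCharacter χ'.2) H) ⟨θ, hH⟩ h2
      (by show _ ≤ Cfsg.charDegree θ; rw [charDegree_res, hθ, charDegree_res, hχ]; exact hb χ')) h
  have hval : ∀ h : H, Cfsg.indFun H θ h = (∑ χ', (m χ' : ℂ)) * θ h := fun h => by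
    rw [hdec, Finset.sum_apply, Finset.sum_mul]
    refine Finset.sum_congr rfl fun χ' _ => ?_
    rw [Pi.smul_apply, smul_eq_mul, hm]
    by_cases h' : m χ' = 0
    · rw [h', Nat.cast_zero, zero_mul, zero_mul]
    · rw [hres χ' h' h]
  have h1 := hval 1
  rw [OneMemClass.coe_one, CfsgLib.Char.indFun_apply_one] at h1
  have hidx := mul_right_cancel₀ (CfsgLib.Char.IsIrrCharacter.apply_one_ne_zero hH) h1
  have h2 := hval ⟨x, hx⟩
  have hterm : ∀ g : G, Cfsg.extendByZero H θ (g⁻¹ * x * g) =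
      if g⁻¹ * x * g ∈ H then (χ : G → ℂ) x else 0 := fun g => by
    split_ifs with hg
    · rw [CfsgLib.Char.extendByZero_apply_mem H θ hg, hθ]
      have := CfsgLib.Char.IsIrrCharacter.isClassFunction χ.2 x g⁻¹
      simpa using this
    · rw [CfsgLib.Char.extendByZero_of_notMem H θ hg]
  rw [← hidx, CfsgLib.Char.indFun_apply, Finset.sum_congr rfl fun g _ => hterm g,
    ← Finset.sum_filter, Finset.sum_const, nsmul_eq_mul, ← mul_assoc] at h2
  have h3 : ((Finset.univ.filter fun g : G => g⁻¹ * x * g ∈ H).card : ℂ) = (Fintype.card G : ℂ) := by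
    have h4 := mul_right_cancel₀ h0 h2
    rw [inv_mul_eq_iff_eq_mul₀ (Nat.cast_ne_zero.2 Nat.card_pos.ne'), ← Nat.cast_mul,
      H.card_mul_index, Nat.card_eq_fintype_card] at h4
    exact h4
  have h5 := Finset.eq_univ_of_card _ (Nat.cast_injective h3)
  intro g
  have h6 : g⁻¹ ∈ Finset.univ.filter fun g : G => g⁻¹ * x * g ∈ H := by
    rw [h5]; exact Finset.mem_univ _
  simpa using (Finset.mem_filter.1 h6).2

/-- A product with a character trivial on a subgroup of irreducible restriction is irreducible. -/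
theorem irr_mul_of_restrict (N : Subgroup G) (χ φ : Cfsg.IrrCharacter G)
    (hN : Cfsg.IsIrrCharacter N (fun n : N => (χ : G → ℂ) n)) [N.Normal]
    (hφ : ∀ n ∈ N, (φ : G → ℂ) n = (φ : G → ℂ) 1) :
    Cfsg.IsIrrCharacter G (fun g => (χ : G → ℂ) g * (φ : G → ℂ) g) := by
  haveI := Fintype.ofFinite G
  haveI := Fintype.ofFinite N
  have hc : Cfsg.IsCharacter G (fun g => (χ : G → ℂ) g * (φ : G → ℂ) g) :=
    CfsgLib.Char.IsCharacter.mul (CfsgLib.Char.IsIrrCharacter.isCharacter χ.2)
      (CfsgLib.Char.IsIrrCharacter.isCharacter φ.2)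
  refine isIrr_of_norm_one hc ?_
  set A : G → ℂ := fun g => (χ : G → ℂ) g * conj ((χ : G → ℂ) g) with hA
  set B : G → ℂ := fun g => (φ : G → ℂ) g * conj ((φ : G → ℂ) g) with hB
  have hAB : ∑ g, A g * B g = (Nat.card G : ℂ) := by
    have hshift : ∀ n : N, ∑ g, A g * B g = ∑ g, A ((n : G) * g) * B g := fun n => by
      rw [← Equiv.sum_comp (Equiv.mulLeft (n : G)) (fun g => A g * B g)]
      refine Finset.sum_congr rfl fun g _ => ?_
      have hng : (φ : G → ℂ) ((n : G) * g) = (φ : G → ℂ) g := by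
        have h1 : (n : G) * g = g * (g⁻¹ * n * g) := by group
        rw [h1]
        refine CharTools.mul_ker (CfsgLib.Char.IsIrrCharacter.isCharacter φ.2) ?_ g
        refine hφ _ ?_
        simpa using Subgroup.Normal.conj_mem ‹N.Normal› _ n.2 g⁻¹
      simp only [Equiv.coe_mulLeft, hB, hng]
    have hcoset : ∀ g, ∑ n : N, A ((n : G) * g) = Nat.card N := fun g =>
      CfsgLib.KGV.sum_mul_conj_coset N χ.2 hN g
    have h1 : (Nat.card N : ℂ) * ∑ g, A g * B g = (Nat.card N : ℂ) * ∑ g, B g := by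
      calc (Nat.card N : ℂ) * ∑ g, A g * B g = ∑ n : N, ∑ g, A g * B g := by
            rw [Finset.sum_const, Finset.card_univ, nsmul_eq_mul, Nat.card_eq_fintype_card]
        _ = ∑ n : N, ∑ g, A ((n : G) * g) * B g := Finset.sum_congr rfl fun n _ => hshift n
        _ = ∑ g, (∑ n : N, A ((n : G) * g)) * B g := by
            rw [Finset.sum_comm]; simp only [Finset.sum_mul]
        _ = (Nat.card N : ℂ) * ∑ g, B g := by
            rw [Finset.mul_sum]; simp only [hcoset]
    rw [mul_left_cancel₀ (Nat.cast_ne_zero.2 Nat.card_pos.ne') h1]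
    exact sum_norm_irr φ.2
  rw [← hAB]
  refine Finset.sum_congr rfl fun g _ => ?_
  simp only [hA, hB, map_mul]
  ring

end CfsgLib.DegBound
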